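import Cfsg.Agent.Lib.Spor.ON.FortyFive.Words

/-!
The squares and the certificates.
-/

set_option autoImplicit false
set_option maxRecDepth 100000
set_option maxHeartbeats 0

namespace CfsgLib.Spor.ON.FortyFive

theorem data_check : dataOK = true := by decide +kernel

theorem eigen_check : eigenOK = true := by decide +kernel

theorem square_check0 : squareOK 0 = true := by decide +kernel

theorem square_check1 : squareOK 1 = true := by decide +kernel

theorem square_check2 : squareOK 2 = true := by decide +kernel

theorem square_check3 : squareOK 3 = true := by decide +kernel

theorem square_check4 : squareOK 4 = true := by decide +kernel

theorem square_check5 : squareOK 5 = true := by decide +kernel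

theorem square_check6 : squareOK 6 = true := by decide +kernel

theorem same_check0 : sameOK 0 = true := by decide +kernel

theorem same_check1 : sameOK 1 = true := by decide +kernel

theorem same_check2 : sameOK 2 = true := by decide +kernel

theorem same_check3 : sameOK 3 = true := by decide +kernel

theorem same_check4 : sameOK 4 = true := by decide +kernel

theorem same_check5 : sameOK 5 = true := by decide +kernel

theorem same_check6 : sameOK 6 = true := by decide +kernel

theorem simple_check0 : simpleOK 0 = true := by decide +kernel

theorem basis_check0 : basisOK 0 = true := by decide +kernel

theorem simple_check9 : simpleOK 9 = true := by decide +kernel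

theorem basis_check9 : basisOK 9 = true := by decide +kernel

theorem simple_check18 : simpleOK 18 = true := by decide +kernel

theorem basis_check18 : basisOK 18 = true := by decide +kernel

theorem simple_check27 : simpleOK 27 = true := by decide +kernel

theorem basis_check27 : basisOK 27 = true := by decide +kernel

theorem simple_check36 : simpleOK 36 = true := by decide +kernel

theorem basis_check36 : basisOK 36 = true := by decide +kernel

end CfsgLib.Spor.ON.FortyFive
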