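import Cfsg.Agent.Lib.Spor.ON.FortyFive.Words

/-!
The short relators.
-/

set_option autoImplicit false
set_option maxRecDepth 100000
set_option maxHeartbeats 0

namespace CfsgLib.Spor.ON.FortyFive

theorem rel_check0 : relOK 0 = true := by decide +kernel

theorem rel_check1 : relOK 1 = true := by decide +kernel

theorem rel_check2 : relOK 2 = true := by decide +kernel

theorem rel_check3 : relOK 3 = true := by decide +kernel

theorem rel_check4 : relOK 4 = true := by decide +kernel

theorem rel_check5 : relOK 5 = true := by decide +kernel

theorem rel_check6 : relOK 6 = true := by decide +kernel

theorem rel_check7 : relOK 7 = true := by decide +kernel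

theorem rel_check8 : relOK 8 = true := by decide +kernel

theorem rel_check9 : relOK 9 = true := by decide +kernel

theorem rel_check10 : relOK 10 = true := by decide +kernel

theorem rel_check11 : relOK 11 = true := by decide +kernel

theorem rel_check12 : relOK 12 = true := by decide +kernel

theorem rel_check13 : relOK 13 = true := by decide +kernel

theorem rel_check14 : relOK 14 = true := by decide +kernel

end CfsgLib.Spor.ON.FortyFive
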