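import Cfsg.Agent.Lib.Spor.ON.FortyFive.Words

/-!
The longer relators.
-/

set_option autoImplicit false
set_option maxRecDepth 100000
set_option maxHeartbeats 0

namespace CfsgLib.Spor.ON.FortyFive

theorem rel_check15 : relOK 15 = true := by decide +kernel

theorem rel_check16 : relOK 16 = true := by decide +kernel

theorem rel_check17 : relOK 17 = true := by decide +kernel

theorem rel_check18 : relOK 18 = true := by decide +kernel

end CfsgLib.Spor.ON.FortyFive
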