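import Cfsg.Agent.Lib.Spor.ON.FortyFive.Words

/-!
The relators lifting to scalars of order three.
-/

set_option autoImplicit false
set_option maxRecDepth 100000
set_option maxHeartbeats 0

namespace CfsgLib.Spor.ON.FortyFive

theorem rel_check19 : relOK 19 = true := by decide +kernel

theorem rel_check20 : relOK 20 = true := by decide +kernel

theorem rel_check21 : relOK 21 = true := by decide +kernel

end CfsgLib.Spor.ON.FortyFive
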