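import Cfsg.Agent.Lib.Spor.ON.FortyFive.CheckCerts
import Cfsg.Agent.Lib.Spor.ON.FortyFive.MatCheck
import Cfsg.Agent.Lib.Spor.ON.FortyFive.CheckRelsA
import Cfsg.Agent.Lib.Spor.ON.FortyFive.CheckRelsB
import Cfsg.Agent.Lib.Spor.ON.FortyFive.CheckRelsC
import Cfsg.Agent.Lib.Spor.ON.Final

/-!
A triple cover of the O'Nan group by matrices of size 45 over seven elements.
-/

set_option autoImplicit false
set_option maxRecDepth 100000

namespace CfsgLib.Spor.ON.FortyFive

open CfsgLib.Spor.TC Matrix

attribute [local irreducible] through rowMul red lin matOf relsG PackedMat.through PackedMat.matOf mats idMat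

local notation "Sq" => Matrix (Fin 45) (Fin 45) (ZMod 7)

/-- A generator. -/
noncomputable def mat (k : ℕ) : Sq := matOf (gens.getD k [])

theorem block_cases {P : ℕ → Prop} (h0 : P 0) (h9 : P 9) (h18 : P 18) (h27 : P 27) (h36 : P 36) (i : ℕ)
    (hi : i < 45) : ∃ lo, P lo ∧ lo ≤ i ∧ i < lo + 9 := by
  rcases Nat.lt_or_ge i 9 with a | a
  · exact ⟨0, h0, Nat.zero_le _, by omega⟩
  rcases Nat.lt_or_ge i 18 with b | b
  · exact ⟨9, h9, a, by omega⟩
  rcases Nat.lt_or_ge i 27 with c | c
  · exact ⟨18, h18, b, by omega⟩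
  rcases Nat.lt_or_ge i 36 with d | d
  · exact ⟨27, h27, c, by omega⟩
  exact ⟨36, h36, d, by omega⟩

theorem data_spec : gens.length = 7 ∧ (∀ k < 7, rowsOK (gens.getD k []) = true) ∧ rowsOK eInv = true ∧
    rowsOK basisInv = true ∧ (∀ j < 45, dig eVec j < 7) ∧ eVec < 4096 ^ 45 ∧ (∀ k ∈ eWord, k < 7) ∧
    (∀ w ∈ spanWords, ∀ k ∈ w, k < 7) ∧ scalars.length = relsG.length ∧ (∀ c ∈ scalars, c = 1 ∨ c = 2) := by
  have h := data_check
  simp only [dataOK, Bool.and_eq_true, beq_iff_eq, List.all_eq_true, List.mem_range, Bool.or_eq_true] at h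
  obtain ⟨⟨⟨⟨⟨⟨⟨⟨⟨a, b⟩, c⟩, d⟩, e⟩, e'⟩, f⟩, g⟩, i⟩, j⟩ := h
  refine ⟨a, fun k hk => ?_, c, d, fun l hl => ?_, Nat.le_of_ble_eq_true e', fun k hk => Nat.le_of_ble_eq_true (f k hk),
    fun w hw k hk => Nat.le_of_ble_eq_true (g w hw k hk), i, j⟩
  · rw [List.getD_eq_getElem _ _ (by omega)]
    exact b _ (List.getElem_mem _)
  · rw [dig_eq]
    exact Nat.le_of_ble_eq_true (e l hl)

theorem dig_high : ∀ (n x : ℕ), x < 4096 ^ n → ∀ k, n ≤ k → dig x k = 0
  | 0, x, h, k, _ => by rw [show x = 0 by simpa using h]; exact dig_zero k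
  | n + 1, x, h, k, hk => by
    obtain ⟨k, rfl⟩ : ∃ j, k = j + 1 := ⟨k - 1, by omega⟩
    rw [pow_succ] at h
    exact dig_high n _ (Nat.div_lt_of_lt_mul (by rw [mul_comm]; exact h)) k (by omega)

attribute [local irreducible] dig rowVec eVec eFun eInv basisInv spanWords eWord gens

theorem eVec_small (k : ℕ) : dig eVec k < 7 := by
  by_cases h : k < 45
  · exact data_spec.2.2.2.2.1 k h
  · rw [dig_high 45 _ data_spec.2.2.2.2.2.1 k (by omega)]; norm_num

theorem through_mat {w : List ℕ} (hw : ∀ k ∈ w, k < 7) {x : ℕ} (hx : ∀ k, dig x k < 7) :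
    (∀ k, dig (through gens x w) k < 7) ∧ rowVec (through gens x w) = rowVec x ᵥ* (w.map mat).prod := by
  obtain ⟨hl, hr, -⟩ := data_spec
  exact through_spec (fun k hk => hr k (hl ▸ hk)) w x (fun k hk => hl.symm ▸ hw k hk) hx

theorem rowVec_nsmul {c x : ℕ} (hc : c < 7) (hx : ∀ k, dig x k < 7) : rowVec (c * x) = (c : ZMod 7) • rowVec x := by
  funext j
  simp only [rowVec, Pi.smul_apply, smul_eq_mul]
  rw [dig_mul _ _ _ fun i _ => lt_of_le_of_lt (Nat.mul_le_mul (Nat.lt_succ_iff.1 (show c < 6 + 1 from hc))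
    (Nat.lt_succ_iff.1 (show dig x i < 6 + 1 from hx i))) (by norm_num), Nat.cast_mul]

theorem same_spec (k : ℕ) (hk : k < 7) : PackedMat.matOf 45 7 (mats.getD k []) = mat k := by
  have h : sameOK k = true := by
    interval_cases k
    exacts [same_check0, same_check1, same_check2, same_check3, same_check4, same_check5, same_check6]
  ext i j
  have e := Nat.eq_of_beq_eq_true (List.all_eq_true.1 (List.all_eq_true.1 h i.1 (List.mem_range.2 i.2)) j.1
    (List.mem_range.2 j.2))
  rw [← dig_eq, show (65535 : ℕ) = 2 ^ 16 - 1 from rfl, Nat.and_two_pow_sub_one_eq_mod, Nat.shiftRight_eq_div_pow] at e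
  simp only [PackedMat.matOf, mat, matOf, rowVec, Matrix.of_apply, PackedMat.entry]
  rw [← e]

theorem scalar_spec {w : List ℕ} {c : ℕ} (hw : ∀ k ∈ w, k < 7) (hc : c < 7) (h : scalarOK w c = true) :
    (w.map mat).prod = (c : ZMod 7) • (1 : Sq) := by
  obtain ⟨hl, hr⟩ := mats_check
  have hMs : ∀ k < mats.length, PackedMat.rowsOK ctx.n ctx.p (mats.getD k []) = true := fun k hk => by
    rw [List.getD_eq_getElem _ _ hk]
    exact List.all_eq_true.1 hr _ (List.getElem_mem _)
  have e := PackedMat.word_eq_scalar valid (show 1 < 7 by norm_num) (show 7 ≤ 65536 by norm_num) hMs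
    (fun k hk => hl.symm ▸ hw k hk) (s := c) hc (by rw [scalar_enc, scalar_enc, mul_one]; exact Nat.eq_of_beq_eq_true h)
  rw [show w.map mat = w.map fun k => PackedMat.matOf 45 7 (mats.getD k []) from
    List.map_congr_left fun k hk => (same_spec k (hw k hk)).symm]
  exact e

theorem powWord_lt {w : List ℕ} (hw : ∀ k ∈ w, k < 7) : ∀ e, ∀ k ∈ powWord w e, k < 7
  | 0 => by simp [powWord]
  | e + 1 => fun k hk => by
    rw [powWord] at hk
    rcases List.mem_append.1 hk with hk | hk
    · exact hw k hk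
    · exact powWord_lt hw e k hk

theorem rel_scalar_lt : ∀ i : Fin 22, scalars.getD i.1 0 < 7 ∧ ∀ k ∈ (relsG.getD i.1 ([], 0)).1, k < 7 := by
  decide +kernel

theorem rels_count : relsG.length = 22 ∧ scalars.getD 19 0 = 2 := by decide +kernel

theorem rel_spec (i : ℕ) (hi : i < 22) : ((powWord (relsG.getD i ([], 0)).1 (relsG.getD i ([], 0)).2).map mat).prod =
    ((scalars.getD i 0 : ℕ) : ZMod 7) • (1 : Sq) := by
  obtain ⟨hc, hw⟩ := rel_scalar_lt ⟨i, hi⟩
  have hw' := powWord_lt hw (relsG.getD i ([], 0)).2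
  interval_cases i
  · exact scalar_spec hw' hc rel_check0
  · exact scalar_spec hw' hc rel_check1
  · exact scalar_spec hw' hc rel_check2
  · exact scalar_spec hw' hc rel_check3
  · exact scalar_spec hw' hc rel_check4
  · exact scalar_spec hw' hc rel_check5
  · exact scalar_spec hw' hc rel_check6
  · exact scalar_spec hw' hc rel_check7
  · exact scalar_spec hw' hc rel_check8
  · exact scalar_spec hw' hc rel_check9
  · exact scalar_spec hw' hc rel_check10
  · exact scalar_spec hw' hc rel_check11
  · exact scalar_spec hw' hc rel_check12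
  · exact scalar_spec hw' hc rel_check13
  · exact scalar_spec hw' hc rel_check14
  · exact scalar_spec hw' hc rel_check15
  · exact scalar_spec hw' hc rel_check16
  · exact scalar_spec hw' hc rel_check17
  · exact scalar_spec hw' hc rel_check18
  · exact scalar_spec hw' hc rel_check19
  · exact scalar_spec hw' hc rel_check20
  · exact scalar_spec hw' hc rel_check21

theorem square_spec (k : ℕ) (hk : k < 7) : mat k * mat k = 1 := by
  have hw : ∀ j ∈ [k, k], j < 7 := fun j hj => by simp at hj; omega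
  have h : ([k, k].map mat).prod = ((1 : ℕ) : ZMod 7) • (1 : Sq) := by
    interval_cases k
    · exact scalar_spec hw (by norm_num) square_check0
    · exact scalar_spec hw (by norm_num) square_check1
    · exact scalar_spec hw (by norm_num) square_check2
    · exact scalar_spec hw (by norm_num) square_check3
    · exact scalar_spec hw (by norm_num) square_check4
    · exact scalar_spec hw (by norm_num) square_check5
    · exact scalar_spec hw (by norm_num) square_check6
  simpa using h

theorem rowVec_red (x : ℕ) : rowVec (red 45 x) = rowVec x := by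
  funext j
  simp only [rowVec, dig_red, if_pos j.2, ZMod.natCast_mod]

theorem red_small (x k : ℕ) : dig (red 45 x) k < 7 := by
  rw [dig_red]
  split_ifs
  · exact Nat.mod_lt _ (by norm_num)
  · norm_num

theorem rowVec_add {a b : ℕ} (h : ∀ i, dig a i + dig b i < 4096) : rowVec (a + b) = rowVec a + rowVec b := by
  funext j
  simp only [rowVec, Pi.add_apply, dig_add _ _ _ (fun i _ => h i), Nat.cast_add]

theorem cert_small : eVal < 7 ∧ (∀ i : Fin 45, eFun.getD i.1 0 < 7) ∧ eVal = 6 ∧
    (spanWords.length = 45 ∧ ∀ i : Fin 45, ∀ k ∈ spanWords.getD i.1 [], k < 7) := by decide +kernel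

/-- The eigenvector. -/
noncomputable def eigVec : Fin 45 → ZMod 7 := rowVec eVec

theorem eigen_spec : eigVec ᵥ* (eWord.map mat).prod = (eVal : ZMod 7) • eigVec := by
  have h : through gens eVec eWord = red 45 (eVal * eVec) := Nat.eq_of_beq_eq_true eigen_check
  rw [eigVec, ← (through_mat data_spec.2.2.2.2.2.2.1 eVec_small).2, h]
  exact (rowVec_red _).trans (rowVec_nsmul cert_small.1 eVec_small)

theorem simple_spec {x : Fin 45 → ZMod 7} (hx : x ᵥ* (eWord.map mat).prod = (eVal : ZMod 7) • x) :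
    ∃ c : ZMod 7, x = c • eigVec := by
  set B : Sq := (eWord.map mat).prod with hB
  let U : Sq := Matrix.of fun i j => ((eFun.getD i.1 0 : ℕ) : ZMod 7) * eigVec j
  have hident : (B - (eVal : ZMod 7) • 1) * matOf eInv + U = 1 := by
    refine Matrix.ext_of_single_vecMul fun i => ?_
    have hh : ∀ lo, simpleOK lo = true → lo ≤ i.1 → i.1 < lo + 9 → Pi.single i 1 ᵥ*
        ((B - (eVal : ZMod 7) • 1) * matOf eInv + U) = Pi.single i 1 ᵥ* (1 : Sq) := by
      intro lo h l1 l2
      have e := congrArg rowVec (Nat.eq_of_beq_eq_true (List.all_eq_true.1 h i.1 (List.mem_range'_1.2 ⟨l1, l2⟩)))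
      obtain ⟨t1, t2⟩ := through_mat data_spec.2.2.2.2.2.2.1 (unit_small i.1)
      have m1 : ∀ j, dig ((7 - eVal) * unitRow i.1) j ≤ 36 := fun j => by
        rw [dig_mul _ _ _ fun l _ => lt_of_le_of_lt (Nat.mul_le_mul (show 7 - eVal ≤ 7 by omega)
          (Nat.lt_succ_iff.1 (show dig (unitRow i.1) l < 6 + 1 from unit_small _ _))) (by norm_num)]
        have := unit_small i.1 j
        rw [cert_small.2.2.1]
        omega
      have hv7 : 7 - eVal < 7 := by rw [cert_small.2.2.1]; norm_num
      have m2 : ∀ j, dig (eFun.getD i.1 0 * eVec) j ≤ 36 := fun j => by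
        rw [dig_mul _ _ _ fun l _ => lt_of_le_of_lt (Nat.mul_le_mul (Nat.lt_succ_iff.1 (show _ < 6 + 1 from cert_small.2.1 i))
          (Nat.lt_succ_iff.1 (show dig eVec l < 6 + 1 from eVec_small l))) (by norm_num)]
        exact Nat.mul_le_mul (Nat.lt_succ_iff.1 (show _ < 6 + 1 from cert_small.2.1 i))
          (Nat.lt_succ_iff.1 (show _ < 6 + 1 from eVec_small j))
      have hcast : ((7 - eVal : ℕ) : ZMod 7) = -(eVal : ZMod 7) := by rw [cert_small.2.2.1]; decide
      simp only [Nat.add_eq, Nat.mul_eq] at e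
      rw [rowVec_red, rowVec_add (fun j => by have := m2 j; have := dig_rowMul_lt eInv (red 45 (through gens (unitRow i.1) eWord + (7 - eVal) * unitRow i.1)) j; omega),
        rowVec_rowMul data_spec.2.2.1 (red_small _), rowVec_red,
        rowVec_add (fun j => by have := m1 j; have := t1 j; omega), t2,
        rowVec_nsmul hv7 (unit_small _), rowVec_nsmul (cert_small.2.1 i) eVec_small, rowVec_unit, hcast] at e
      have hU : Pi.single i 1 ᵥ* U = ((eFun.getD i.1 0 : ℕ) : ZMod 7) • eigVec := by
        funext j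
        simp [U, Matrix.single_vecMul]
      rw [vecMul_one, vecMul_add, ← vecMul_vecMul, vecMul_sub, vecMul_smul, vecMul_one, hU, hB, eigVec,
        sub_eq_add_neg, ← neg_smul]
      exact e
    obtain ⟨lo, h, l1, l2⟩ := block_cases (P := fun lo => simpleOK lo = true) simple_check0 simple_check9
      simple_check18 simple_check27 simple_check36 i.1 i.2
    exact hh lo h l1 l2
  refine ⟨∑ i, x i * ((eFun.getD i.1 0 : ℕ) : ZMod 7), ?_⟩
  have h := congrArg (fun A : Sq => x ᵥ* A) hident
  simp only [vecMul_add, ← vecMul_vecMul, vecMul_sub, vecMul_smul, vecMul_one, hx, sub_self, zero_vecMul,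
    zero_add] at h
  refine h.symm.trans ?_
  funext j
  simp [U, vecMul, dotProduct, Finset.sum_mul, mul_assoc]

theorem cancel_scalar {K : Type*} [CommRing K] {P R Z : Matrix (Fin 45) (Fin 45) K} {c : K} (hP : P * R = 1)
    (hPZ : P * Z = c • P) : Z = c • (1 : Matrix (Fin 45) (Fin 45) K) := by
  have hR : R * P = 1 := mul_eq_one_comm.1 hP
  calc Z = R * P * Z := by rw [hR, one_mul]
    _ = R * (c • P) := by rw [mul_assoc, hPZ]
    _ = c • (1 : Matrix (Fin 45) (Fin 45) K) := by rw [Matrix.mul_smul, hR]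

theorem commutant_scalar {Z : Sq} (hZ : ∀ k < 7, Z * mat k = mat k * Z) : ∃ c : ZMod 7, Z = c • (1 : Sq) := by
  have hword : ∀ w : List ℕ, (∀ k ∈ w, k < 7) → Z * (w.map mat).prod = (w.map mat).prod * Z := by
    intro w
    induction w with
    | nil => intro _; simp
    | cons a w ih =>
      intro hw
      rw [List.map_cons, List.prod_cons, ← mul_assoc, hZ a (hw a List.mem_cons_self), mul_assoc,
        ih fun k hk => hw k (List.mem_cons_of_mem _ hk), mul_assoc]
  obtain ⟨c, hc⟩ := simple_spec (x := eigVec ᵥ* Z) (by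
    rw [vecMul_vecMul, hword _ data_spec.2.2.2.2.2.2.1, ← vecMul_vecMul, eigen_spec, smul_vecMul])
  refine ⟨c, ?_⟩
  let P : Sq := Matrix.of fun i j => rowVec (through gens eVec (spanWords.getD i.1 [])) j
  have hrow : ∀ i : Fin 45, Pi.single i 1 ᵥ* P = rowVec (through gens eVec (spanWords.getD i.1 [])) := fun i => by
    rw [Matrix.single_one_vecMul]
    rfl
  clear_value P
  have hP : P * matOf basisInv = 1 := by
    refine Matrix.ext_of_single_vecMul fun i => ?_
    obtain ⟨lo, h, l1, l2⟩ := block_cases (P := fun lo => basisOK lo = true) basis_check0 basis_check9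
      basis_check18 basis_check27 basis_check36 i.1 i.2
    have e := List.all_eq_true.1 h i.1 (List.mem_range'_1.2 ⟨l1, l2⟩)
    simp only [Bool.and_eq_true] at e
    obtain ⟨t1, -⟩ := through_mat (cert_small.2.2.2.2 i) eVec_small
    have e1 := Nat.eq_of_beq_eq_true e.1
    have e2 := congrArg rowVec (Nat.eq_of_beq_eq_true e.2)
    rw [← e1, rowVec_rowMul data_spec.2.2.2.1 t1, rowVec_unit] at e2
    rw [vecMul_one, ← vecMul_vecMul, hrow i]
    exact e2
  have hPZ : P * Z = c • P := by
    refine Matrix.ext_of_single_vecMul fun i => ?_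
    obtain ⟨-, t2⟩ := through_mat (cert_small.2.2.2.2 i) eVec_small
    have e : Pi.single i 1 ᵥ* P = eigVec ᵥ* ((spanWords.getD i.1 []).map mat).prod := by
      rw [hrow i, t2, eigVec]
    rw [vecMul_smul, ← vecMul_vecMul, e, vecMul_vecMul, ← hword _ (cert_small.2.2.2.2 i), ← vecMul_vecMul, hc,
      smul_vecMul]
  exact cancel_scalar hP hPZ

theorem mat_ne : mat 0 * mat 1 ≠ mat 1 * mat 0 := by
  intro h
  have e := congrArg (fun A : Sq => Pi.single (0 : Fin 45) 1 ᵥ* A) h
  obtain ⟨-, t⟩ := through_mat (w := [0, 1]) (x := unitRow (0 : Fin 45).1) (by decide) (unit_small _)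
  obtain ⟨-, t'⟩ := through_mat (w := [1, 0]) (x := unitRow (0 : Fin 45).1) (by decide) (unit_small _)
  simp only [List.map_cons, List.map_nil, List.prod_cons, List.prod_nil, mul_one, rowVec_unit] at t t'
  rw [← t, ← t'] at e
  revert e
  decide +kernel

/-- The determinant is trivial: it gives a homomorphism from the simple presented group. -/
theorem det_mat (k : ℕ) (hk : k < 7) : (mat k).det = 1 := by
  let d : ℕ → (ZMod 7)ˣ := fun x => if h : x < 7 then
    ⟨(mat x).det, (mat x).det, by rw [← det_mul, square_spec x h, Matrix.det_one],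
      by rw [← det_mul, square_spec x h, Matrix.det_one]⟩ else 1
  have hval : ∀ w : List ℕ, (∀ x ∈ w, x < 7) → ((ev d w : (ZMod 7)ˣ) : ZMod 7) = ((w.map mat).prod).det := by
    intro w
    induction w with
    | nil => intro _; simp [ev]
    | cons a w ih =>
      intro hw
      rw [ev_cons, Units.val_mul, ih fun x hx => hw x (List.mem_cons_of_mem _ hx), List.map_cons, List.prod_cons,
        det_mul]
      simp [d, hw a List.mem_cons_self]
  have hsat : Sat 7 relsG d := by
    refine ⟨fun x => ?_, fun x hx => dif_neg (by omega), fun r hr => ?_⟩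
    · by_cases hx : x < 7
      · refine Units.ext ?_
        simp only [d, dif_pos hx, Units.val_mul, Units.val_one]
        rw [← det_mul, square_spec x hx, Matrix.det_one]
      · simp [d, hx]
    · obtain ⟨i, hi, rfl⟩ := List.mem_iff_getElem.1 hr
      have hi' : i < 22 := rels_count.1 ▸ hi
      have hr' : relsG[i] = relsG.getD i ([], 0) := (List.getD_eq_getElem _ _ hi).symm
      rw [hr', ← ev_powWord]
      refine Units.ext ?_
      rw [hval _ (powWord_lt (rel_scalar_lt ⟨i, hi'⟩).2 _), rel_spec i hi', det_smul, Matrix.det_one, mul_one,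
        Fintype.card_fin, Units.val_one]
      have hmem : scalars.getD i 0 ∈ scalars := by
        rw [List.getD_eq_getElem _ _ (by rw [data_spec.2.2.2.2.2.2.2.2.1]; exact hi)]
        exact List.getElem_mem _
      rcases data_spec.2.2.2.2.2.2.2.2.2 _ hmem with h | h <;> rw [h] <;> decide
  have hψ : ∀ g, presHom hsat g = 1 := by
    have : IsSimpleGroup (Pres 7 relsG) := simple
    rcases IsSimpleGroup.eq_bot_or_eq_top_of_normal (presHom hsat).ker inferInstance with h | h
    · exfalso
      have hc : ∀ a b : Pres 7 relsG, a * b = b * a := fun a b =>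
        (MonoidHom.ker_eq_bot_iff _).1 h (by rw [map_mul, map_mul, mul_comm])
      have hinj := Nat.card_le_card_of_injective _ ((MonoidHom.ker_eq_bot_iff _).1 h)
      rw [show Nat.card (Pres 7 relsG) = 460815505920 from card_eq] at hinj
      have h7 : Nat.card (ZMod 7)ˣ ≤ Nat.card (ZMod 7) := Nat.card_le_card_of_injective _ fun _ _ h => Units.ext h
      rw [Nat.card_zmod] at h7
      omega
    · exact fun g => MonoidHom.mem_ker.1 (h ▸ Subgroup.mem_top g)
  have h := hψ (presGen 7 relsG k)
  rw [presHom_gen] at h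
  have := congrArg (fun u : (ZMod 7)ˣ => (u : ZMod 7)) h
  simpa [d, hk] using this

/-- The generators in the special linear group. -/
noncomputable def slGen (k : ℕ) : Matrix.SpecialLinearGroup (Fin 45) (ZMod 7) :=
  if h : k < 7 then ⟨mat k, det_mat k h⟩ else 1

/-- The cover. -/
noncomputable def cover : Subgroup (Matrix.SpecialLinearGroup (Fin 45) (ZMod 7)) :=
  Subgroup.closure (slGen '' Set.Iio 7)

theorem main : ∃ H : Subgroup (Matrix.SpecialLinearGroup (Fin 45) (ZMod 7)),
    Nat.card (Subgroup.center H) = 3 ∧ Cfsg.IsON (H ⧸ Subgroup.center H) := by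
  refine ⟨cover, ?_⟩
  let v : ℕ → ↥cover := fun x => if h : x < 7 then ⟨slGen x, Subgroup.subset_closure ⟨x, h, rfl⟩⟩ else 1
  have hv : ∀ x, x < 7 → ((v x : Matrix.SpecialLinearGroup (Fin 45) (ZMod 7)) : Sq) = mat x := fun x hx => by
    simp [v, slGen, hx]
  have hword : ∀ w : List ℕ, (∀ y ∈ w, y < 7) →
      ((ev v w : ↥cover) : Matrix.SpecialLinearGroup (Fin 45) (ZMod 7)).1 = (w.map mat).prod := by
    intro w
    induction w with
    | nil => intro _; simp [ev]
    | cons y w ih =>
      intro hw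
      rw [ev_cons, Subgroup.coe_mul, Matrix.SpecialLinearGroup.coe_mul, ih fun z hz => hw z (List.mem_cons_of_mem _ hz),
        hv y (hw y List.mem_cons_self), List.map_cons, List.prod_cons]
  have hcentral : ∀ (g : ↥cover) (c : ZMod 7),
      (g : Matrix.SpecialLinearGroup (Fin 45) (ZMod 7)).1 = c • (1 : Sq) → g ∈ Subgroup.center ↥cover := by
    intro g c hg
    refine Subgroup.mem_center_iff.2 fun h => Subtype.ext (Subtype.ext ?_)
    simp only [Subgroup.coe_mul, Matrix.SpecialLinearGroup.coe_mul, hg, Matrix.mul_smul, Matrix.smul_mul, mul_one,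
      one_mul]
  let q := QuotientGroup.mk' (Subgroup.center ↥cover)
  have hsat : Sat 7 relsG fun x => q (v x) := by
    refine ⟨fun x => ?_, fun x hx => by simp [v, show ¬ x < 7 by omega], fun r hr => ?_⟩
    · by_cases hx : x < 7
      · rw [← map_mul]
        refine (QuotientGroup.eq_one_iff _).2 (hcentral _ 1 ?_)
        rw [Subgroup.coe_mul, Matrix.SpecialLinearGroup.coe_mul, hv x hx, square_spec x hx, one_smul]
      · simp [v, hx]
    · obtain ⟨i, hi, rfl⟩ := List.mem_iff_getElem.1 hr
      have hi' : i < 22 := rels_count.1 ▸ hi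
      have hr' : relsG[i] = relsG.getD i ([], 0) := (List.getD_eq_getElem _ _ hi).symm
      rw [hr', ← ev_powWord, show ev (fun x => q (v x)) = fun w => q (ev v w) from funext fun w => (map_ev q v w).symm]
      refine (QuotientGroup.eq_one_iff _).2 (hcentral _ ((scalars.getD i 0 : ℕ) : ZMod 7) ?_)
      rw [hword _ (powWord_lt (rel_scalar_lt ⟨i, hi'⟩).2 _), rel_spec i hi']
  have hgen : Subgroup.closure (v '' Set.Iio 7) = ⊤ := by
    refine Subgroup.map_injective cover.subtype_injective ?_
    rw [MonoidHom.map_closure, ← MonoidHom.range_eq_map, Subgroup.range_subtype, Set.image_image]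
    unfold cover
    congr 1
    refine Set.image_congr fun x hx => ?_
    simp [v, show x < 7 from hx]
  let ψ := presHom hsat
  have hsurj : Function.Surjective ψ := by
    refine presHom_surjective hsat (top_unique ?_)
    rw [show ((fun x => q (v x)) '' Set.Iio 7) = q '' (v '' Set.Iio 7) by rw [Set.image_image],
      ← MonoidHom.map_closure, hgen, Subgroup.map_top_of_surjective _ (QuotientGroup.mk'_surjective _)]
  have : IsSimpleGroup (Pres 7 relsG) := simple
  have hne : ψ.ker ≠ ⊤ := by
    intro h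
    have h1 : v 0 ∈ Subgroup.center ↥cover := by
      have := MonoidHom.mem_ker.1 (h ▸ Subgroup.mem_top (presGen 7 relsG 0) : presGen 7 relsG 0 ∈ ψ.ker)
      rw [presHom_gen] at this
      exact (QuotientGroup.eq_one_iff _).1 this
    have h2 := congrArg (fun z : ↥cover => (z : Matrix.SpecialLinearGroup (Fin 45) (ZMod 7)).1)
      (Subgroup.mem_center_iff.1 h1 (v 1))
    simp only [Subgroup.coe_mul, Matrix.SpecialLinearGroup.coe_mul, hv 0 (by norm_num), hv 1 (by norm_num)] at h2
    exact mat_ne h2.symm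
  have hker : ψ.ker = ⊥ := (IsSimpleGroup.eq_bot_or_eq_top_of_normal ψ.ker inferInstance).resolve_right hne
  let e := MulEquiv.ofBijective ψ ⟨(MonoidHom.ker_eq_bot_iff ψ).1 hker, hsurj⟩
  refine ⟨?_, e.symm.isSimpleGroup, (Nat.card_congr e.toEquiv).symm.trans card_eq⟩
  -- the centre
  obtain ⟨hi19, h19⟩ : (19 : ℕ) < 22 ∧ scalars.getD 19 0 = 2 := ⟨by norm_num, rels_count.2⟩
  let f : Subgroup.center ↥cover → {c : ZMod 7 // c ^ 3 = 1} := fun g =>
    ⟨(g.1 : Matrix.SpecialLinearGroup (Fin 45) (ZMod 7)).1 0 0, by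
      obtain ⟨c, hc⟩ := commutant_scalar (Z := (g.1 : Matrix.SpecialLinearGroup (Fin 45) (ZMod 7)).1) fun k hk => by
        have h2 := congrArg (fun z : ↥cover => (z : Matrix.SpecialLinearGroup (Fin 45) (ZMod 7)).1)
          (Subgroup.mem_center_iff.1 g.2 (v k))
        simp only [Subgroup.coe_mul, Matrix.SpecialLinearGroup.coe_mul, hv k hk] at h2
        exact h2.symm
      have hd := (g.1 : Matrix.SpecialLinearGroup (Fin 45) (ZMod 7)).2
      rw [hc, det_smul, Matrix.det_one, mul_one, Fintype.card_fin] at hd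
      rw [hc, Matrix.smul_apply, Matrix.one_apply_eq, smul_eq_mul, mul_one]
      exact (by decide : ∀ c : ZMod 7, c ^ 45 = 1 → c ^ 3 = 1) c hd⟩
  have hscal : ∀ g : Subgroup.center ↥cover, (g.1 : Matrix.SpecialLinearGroup (Fin 45) (ZMod 7)).1 =
      (g.1 : Matrix.SpecialLinearGroup (Fin 45) (ZMod 7)).1 0 0 • (1 : Sq) := fun g => by
    obtain ⟨c, hc⟩ := commutant_scalar (Z := (g.1 : Matrix.SpecialLinearGroup (Fin 45) (ZMod 7)).1) fun k hk => by
      have h2 := congrArg (fun z : ↥cover => (z : Matrix.SpecialLinearGroup (Fin 45) (ZMod 7)).1)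
        (Subgroup.mem_center_iff.1 g.2 (v k))
      simp only [Subgroup.coe_mul, Matrix.SpecialLinearGroup.coe_mul, hv k hk] at h2
      exact h2.symm
    rw [hc, Matrix.smul_apply, Matrix.one_apply_eq, smul_eq_mul, mul_one]
  have hf : Function.Bijective f := by
    refine ⟨fun g g' h => Subtype.ext (Subtype.ext (Subtype.ext ?_)), fun ⟨c, hc⟩ => ?_⟩
    · rw [hscal g, hscal g']
      exact congrArg (fun c : {c : ZMod 7 // c ^ 3 = 1} => c.1 • (1 : Sq)) h
    · have hw := powWord_lt (rel_scalar_lt ⟨19, hi19⟩).2 (relsG.getD 19 ([], 0)).2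
      have hz := (hword _ hw).trans (rel_spec 19 hi19)
      rw [h19] at hz
      generalize powWord (relsG.getD 19 ([], 0)).1 (relsG.getD 19 ([], 0)).2 = w at hz
      obtain ⟨n, rfl⟩ : ∃ n : Fin 3, ((2 : ℕ) : ZMod 7) ^ (n : ℕ) = c :=
        (by decide : ∀ c : ZMod 7, c ^ 3 = 1 → ∃ n : Fin 3, ((2 : ℕ) : ZMod 7) ^ (n : ℕ) = c) c hc
      refine ⟨⟨(ev v w) ^ (n : ℕ), pow_mem (hcentral _ _ hz) _⟩, Subtype.ext ?_⟩
      show ((((ev v w) ^ (n : ℕ) : ↥cover) : Matrix.SpecialLinearGroup (Fin 45) (ZMod 7)) : Sq) 0 0 = _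
      rw [Subgroup.coe_pow, Matrix.SpecialLinearGroup.coe_pow, hz, smul_pow, one_pow, Matrix.smul_apply,
        Matrix.one_apply_eq, smul_eq_mul, mul_one]
  rw [Nat.card_congr (Equiv.ofBijective f hf), Nat.card_eq_fintype_card]
  decide

end CfsgLib.Spor.ON.FortyFive
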