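import Mathlib

/-!
Row vectors over seven elements packed in numbers, twelve bits to an entry, and their products with matrices.
-/

set_option autoImplicit false

namespace CfsgLib.Spor.ON.FortyFive

open Matrix

/-- Evaluate an argument before passing it on. -/
noncomputable def force {α : Type} (n : ℕ) (f : ℕ → α) : α :=
  Nat.rec (motive := fun _ => (ℕ → α) → α) (fun f => f 0) (fun m _ f => f (Nat.succ m)) n f

theorem force_eq {α : Type} (n : ℕ) (f : ℕ → α) : force n f = f n := by cases n <;> rfl

/-- An entry. -/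
def dig (x : ℕ) : ℕ → ℕ
  | 0 => x % 4096
  | j + 1 => dig (x / 4096) j

/-- The weighted sum of rows. -/
noncomputable def lin : List ℕ → ℕ → ℕ :=
  List.rec (fun _ => 0) fun c _ r X => Nat.add (Nat.mul (Nat.mod X 4096) c) (force (Nat.div X 4096) r)

/-- All entries modulo seven. -/
noncomputable def red : ℕ → ℕ → ℕ :=
  Nat.rec (fun _ => 0) fun _ r X =>
    Nat.add (Nat.mod (Nat.mod X 4096) 7) (Nat.mul 4096 (force (Nat.div X 4096) r))

/-- A row times a matrix. -/
noncomputable def rowMul (R : List ℕ) (x : ℕ) : ℕ := force (force (lin R x) (red 45)) fun y => y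

/-- A unit row. -/
def unitRow (i : ℕ) : ℕ := 4096 ^ i

/-- All rows are reduced. -/
def rowsOK (R : List ℕ) : Bool :=
  R.length == 45 && R.all fun c => (List.range 45).all fun j => Nat.blt ((c >>> (12 * j)) &&& 4095) 7

/-- The row vector of a number. -/
def rowVec (x : ℕ) : Fin 45 → ZMod 7 := fun j => (dig x j.1 : ℕ)

/-- The matrix of a list of rows. -/
def matOf (R : List ℕ) : Matrix (Fin 45) (Fin 45) (ZMod 7) := Matrix.of fun i j => rowVec (R.getD i.1 0) j

theorem dig_lt : ∀ j x, dig x j < 4096
  | 0, x => Nat.mod_lt _ (by norm_num)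
  | j + 1, x => dig_lt j _

theorem dig_zero : ∀ j, dig 0 j = 0
  | 0 => rfl
  | j + 1 => by rw [dig, Nat.zero_div, dig_zero j]

theorem dig_eq : ∀ j x, dig x j = (x >>> (12 * j)) &&& 4095
  | 0, x => by rw [dig, Nat.mul_zero, Nat.shiftRight_zero]; exact (Nat.and_two_pow_sub_one_eq_mod x 12).symm
  | j + 1, x => by
    rw [dig, dig_eq j, Nat.shiftRight_eq_div_pow, Nat.shiftRight_eq_div_pow,
      show 12 * (j + 1) = 12 + 12 * j by ring, pow_add, Nat.div_div_eq_div_mul]
    norm_num

theorem dig_add : ∀ j a b, (∀ i ≤ j, dig a i + dig b i < 4096) → dig (a + b) j = dig a j + dig b j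
  | 0, a, b, h => by
    have := h 0 le_rfl
    simp only [dig] at this ⊢
    omega
  | j + 1, a, b, h => by
    have h0 := h 0 (Nat.zero_le _)
    simp only [dig] at h0
    simp only [dig]
    rw [show (a + b) / 4096 = a / 4096 + b / 4096 by omega]
    exact dig_add j _ _ fun i hi => h (i + 1) (by omega)

theorem dig_mul : ∀ j d c, (∀ i ≤ j, d * dig c i < 4096) → dig (d * c) j = d * dig c j
  | 0, d, c, h => by
    have := h 0 le_rfl
    simp only [dig] at this ⊢
    rw [Nat.mul_mod, ← Nat.mul_mod, ← Nat.mod_eq_of_lt this]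
    conv_lhs => rw [Nat.mul_mod]
    conv_rhs => rw [Nat.mul_mod, Nat.mod_mod]
  | j + 1, d, c, h => by
    have h0 := h 0 (Nat.zero_le _)
    simp only [dig] at h0
    simp only [dig]
    have e : d * c / 4096 = d * (c / 4096) := by
      conv_lhs => rw [← Nat.div_add_mod c 4096, mul_add, show d * (4096 * (c / 4096)) = 4096 * (d * (c / 4096)) by ring,
        Nat.mul_add_div (by norm_num : 4096 > 0), Nat.div_eq_of_lt h0, add_zero]
    rw [e]
    exact dig_mul j _ _ fun i hi => h (i + 1) (by omega)

theorem dig_lin : ∀ (R : List ℕ) (x j : ℕ), R.length ≤ 45 → (∀ k, dig x k < 7) →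
    (∀ c ∈ R, ∀ i ≤ j, dig c i < 7) →
    dig (lin R x) j = ∑ k ∈ Finset.range R.length, dig x k * dig (R.getD k 0) j ∧
      ∑ k ∈ Finset.range R.length, dig x k * dig (R.getD k 0) j ≤ 36 * R.length
  | [], x, j, _, _, _ => ⟨dig_zero j, by simp⟩
  | c :: R, x, j, hl, hx, hR => by
    simp only [List.length_cons] at hl
    have hbound : ∀ i ≤ j, x % 4096 * dig c i ≤ 36 := fun i hi =>
      Nat.mul_le_mul (show x % 4096 ≤ 6 from Nat.lt_succ_iff.1 (hx 0)) (Nat.lt_succ_iff.1 (hR c List.mem_cons_self i hi))
    have ih : ∀ i ≤ j, dig (lin R (x / 4096)) i = ∑ k ∈ Finset.range R.length, dig (x / 4096) k * dig (R.getD k 0) i ∧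
        ∑ k ∈ Finset.range R.length, dig (x / 4096) k * dig (R.getD k 0) i ≤ 36 * R.length := fun i hi =>
      dig_lin R (x / 4096) i (by omega) (fun k => hx (k + 1))
        (fun d hd l hl' => hR d (List.mem_cons_of_mem _ hd) l (le_trans hl' hi))
    have hmul : ∀ i ≤ j, dig (x % 4096 * c) i = x % 4096 * dig c i := fun i hi =>
      dig_mul i _ _ fun l hl' => lt_of_le_of_lt (hbound l (le_trans hl' hi)) (by norm_num)
    have e : dig (lin (c :: R) x) j = x % 4096 * dig c j + dig (lin R (x / 4096)) j := by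
      show dig (x % 4096 * c + force (x / 4096) (lin R)) j = _
      rw [force_eq]
      rw [dig_add j, hmul j le_rfl]
      intro i hi
      rw [hmul i hi, (ih i hi).1]
      have := hbound i hi; have := (ih i hi).2
      omega
    have es : ∑ k ∈ Finset.range (c :: R).length, dig x k * dig ((c :: R).getD k 0) j =
        x % 4096 * dig c j + ∑ k ∈ Finset.range R.length, dig (x / 4096) k * dig (R.getD k 0) j := by
      rw [List.length_cons, Finset.sum_range_succ', add_comm]
      rfl
    rw [es]
    refine ⟨by rw [e, (ih j le_rfl).1], ?_⟩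
    have := hbound j le_rfl; have := (ih j le_rfl).2
    simp only [List.length_cons]
    omega

theorem dig_red : ∀ n x j, dig (red n x) j = if j < n then dig x j % 7 else 0
  | 0, x, j => by simp [red, dig_zero]
  | n + 1, x, j => by
    have e : red (n + 1) x = x % 4096 % 7 + 4096 * red n (x / 4096) := by
      show x % 4096 % 7 + 4096 * force (x / 4096) (red n) = _
      rw [force_eq]
    rw [e]
    cases j with
    | zero =>
      simp only [dig, Nat.succ_pos, if_true]
      omega
    | succ j =>
      simp only [dig]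
      rw [show (x % 4096 % 7 + 4096 * red n (x / 4096)) / 4096 = red n (x / 4096) by omega, dig_red n]
      simp

theorem rowsOK_spec {R : List ℕ} (h : rowsOK R = true) :
    R.length = 45 ∧ ∀ c ∈ R, ∀ j < 45, dig c j < 7 := by
  simp only [rowsOK, Bool.and_eq_true, beq_iff_eq, List.all_eq_true, List.mem_range] at h
  exact ⟨h.1, fun c hc j hj => by rw [dig_eq]; exact Nat.le_of_ble_eq_true (h.2 c hc j hj)⟩

theorem dig_rowMul_lt (R : List ℕ) (x k : ℕ) : dig (rowMul R x) k < 7 := by
  rw [rowMul, force_eq, force_eq, dig_red]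
  split_ifs
  · exact Nat.mod_lt _ (by norm_num)
  · norm_num

theorem rowVec_rowMul {R : List ℕ} (h : rowsOK R = true) {x : ℕ} (hx : ∀ k, dig x k < 7) :
    rowVec (rowMul R x) = rowVec x ᵥ* matOf R := by
  obtain ⟨hl, hR⟩ := rowsOK_spec h
  funext j
  simp only [rowVec, rowMul, force_eq, dig_red, if_pos j.2]
  rw [(dig_lin R x j.1 hl.le hx fun c hc i hi => hR c hc i (lt_of_le_of_lt hi j.2)).1, ZMod.natCast_mod, hl,
    Nat.cast_sum, ← Fin.sum_univ_eq_sum_range]
  simp only [vecMul, dotProduct, matOf, of_apply, rowVec, Nat.cast_mul]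

theorem dig_unit : ∀ i j, dig (unitRow i) j = if j = i then 1 else 0
  | 0, 0 => rfl
  | 0, j + 1 => by simp [unitRow, dig, dig_zero]
  | i + 1, 0 => by simp [unitRow, dig, pow_succ]
  | i + 1, j + 1 => by
    simp only [dig, unitRow]
    rw [pow_succ, Nat.mul_div_cancel _ (by norm_num : 4096 > 0), show 4096 ^ i = unitRow i from rfl, dig_unit i j]
    simp

theorem rowVec_unit (i : Fin 45) : rowVec (unitRow i.1) = Pi.single i 1 := by
  funext j
  simp only [rowVec, dig_unit, Pi.single_apply, Fin.ext_iff]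
  split_ifs <;> simp_all

theorem unit_small (i k : ℕ) : dig (unitRow i) k < 7 := by
  rw [dig_unit]; split_ifs <;> norm_num

attribute [local irreducible] rowMul

/-- A row through a list of matrices. -/
noncomputable def through (Ms : List (List ℕ)) (x : ℕ) : List ℕ → ℕ :=
  fun w => List.rec (motive := fun _ => ℕ → ℕ) (fun x => x)
    (fun k _ r x => force (rowMul (Ms.getD k []) x) fun y => r y) w x

theorem through_spec {Ms : List (List ℕ)} (hMs : ∀ k < Ms.length, rowsOK (Ms.getD k []) = true) :
    ∀ (w : List ℕ) (x : ℕ), (∀ k ∈ w, k < Ms.length) → (∀ k, dig x k < 7) →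
      (∀ k, dig (through Ms x w) k < 7) ∧
        rowVec (through Ms x w) = rowVec x ᵥ* (w.map fun k => matOf (Ms.getD k [])).prod
  | [], x, _, hx => ⟨hx, by simp [through]⟩
  | a :: w, x, hw, hx => by
    have e : through Ms x (a :: w) = through Ms (rowMul (Ms.getD a []) x) w := by
      show force (rowMul (Ms.getD a []) x) (fun y => through Ms y w) = _
      rw [force_eq]
    obtain ⟨h1, h2⟩ := through_spec hMs w (rowMul (Ms.getD a []) x) (fun k hk => hw k (List.mem_cons_of_mem _ hk))
      (dig_rowMul_lt _ _)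
    refine ⟨by rw [e]; exact h1, ?_⟩
    rw [e, h2, rowVec_rowMul (hMs a (hw a List.mem_cons_self)) hx, vecMul_vecMul, List.map_cons, List.prod_cons]

end CfsgLib.Spor.ON.FortyFive
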