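import Cfsg.Agent.Lib.Spor.ON.FortyFive.Packed
import Cfsg.Agent.Lib.Spor.ON.FortyFive.Data
import Cfsg.Agent.Lib.Spor.ON.Rels
import Cfsg.Agent.Lib.Spor.ON.FortyFive.MatData

/-!
The checks on the seven matrices.
-/

set_option autoImplicit false

namespace CfsgLib.Spor.ON.FortyFive

open CfsgLib.Spor.TC

/-- A word acts as a scalar. -/
noncomputable def scalarOK (w : List ℕ) (c : ℕ) : Bool :=
  Nat.beq (PackedMat.through ctx mats idMat w) (idMat * c)

/-- A square is trivial. -/
noncomputable def squareOK (k : ℕ) : Bool := scalarOK [k, k] 1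

/-- A relator is a scalar. -/
noncomputable def relOK (i : ℕ) : Bool :=
  scalarOK (powWord (relsG.getD i ([], 0)).1 (relsG.getD i ([], 0)).2) (scalars.getD i 0)

/-- The two packings of the generators agree. -/
noncomputable def sameOK (k : ℕ) : Bool :=
  (List.range 45).all fun i => (List.range 45).all fun j =>
    Nat.beq ((((mats.getD k []).getD i 0) >>> (16 * j)) &&& 65535) ((((gens.getD k []).getD i 0) >>> (12 * j)) &&& 4095)

/-- The matrices are reduced. -/
noncomputable def dataOK : Bool :=
  gens.length == 7 && gens.all rowsOK && rowsOK eInv && rowsOK basisInv &&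
    ((List.range 45).all fun j => Nat.blt ((eVec >>> (12 * j)) &&& 4095) 7) && Nat.blt eVec (4096 ^ 45) &&
    eWord.all (fun k => Nat.blt k 7) && (spanWords.all fun w => w.all fun k => Nat.blt k 7) &&
    scalars.length == relsG.length && scalars.all (fun c => c == 1 || c == 2)

/-- The eigenvalue is simple. -/
noncomputable def simpleOK (lo : ℕ) : Bool :=
  (List.range' lo 9).all fun i =>
    Nat.beq (red 45 (Nat.add (rowMul eInv (red 45 (Nat.add (through gens (unitRow i) eWord)
        (Nat.mul (7 - eVal) (unitRow i))))) (Nat.mul (eFun.getD i 0) eVec))) (unitRow i)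

/-- The eigenvector is one. -/
noncomputable def eigenOK : Bool :=
  Nat.beq (through gens eVec eWord) (red 45 (Nat.mul eVal eVec))

/-- The images of the eigenvector form a basis. -/
noncomputable def basisOK (lo : ℕ) : Bool :=
  (List.range' lo 9).all fun i =>
    Nat.beq (through gens eVec (spanWords.getD i [])) (basisRows.getD i 0) &&
      Nat.beq (rowMul basisInv (basisRows.getD i 0)) (unitRow i)

end CfsgLib.Spor.ON.FortyFive
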